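import Mathlib.LinearAlgebra.Dual.Lemmas
import Mathlib.RingTheory.LocalRing.Module
import Mathlib.Algebra.Module.Projective

/-!
# Dual generators of a reflexive module
-/

set_option autoImplicit false
universe u

open Module

namespace Groth.Agent.ReflEmbLib

variable {R M B Q : Type u} [CommRing R] [AddCommGroup M] [Module R M] [AddCommGroup B] [Module R B]
  [AddCommGroup Q] [Module R Q] {r : ℕ} (θ : Fin r → Dual R M) (hθ : Submodule.span R (Set.range θ) = ⊤)

include hθ in
theorem surjective_linComb : Function.Surjective (Fintype.linearCombination R θ) := by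
  rw [← LinearMap.range_eq_top, Fintype.range_linearCombination, hθ]

theorem eq_zero_of_forall (v : M) [IsReflexive R M] (h : ∀ i, θ i v = 0)
    (hθ : Submodule.span R (Set.range θ) = ⊤) : v = 0 := by
  apply (bijective_dual_eval R M).1
  refine LinearMap.ext fun φ => ?_
  obtain ⟨a, rfl⟩ := surjective_linComb θ hθ φ
  simp [Fintype.linearCombination_apply, h]

include hθ in
/-- A vector killed by all relations of the dual generators is in the image. -/
theorem exists_preimage [IsReflexive R M] (w : Fin r → R)
    (hw : ∀ a : Fin r → R, (∀ v, ∑ i, a i * θ i v = 0) → ∑ i, a i * w i = 0) : ∃ v, ∀ i, θ i v = w i := by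
  classical
  let Φ := Fintype.linearCombination R θ
  let wl : (Fin r → R) →ₗ[R] R := Fintype.linearCombination R w
  have hker : LinearMap.ker Φ ≤ LinearMap.ker wl := fun a ha => by
    rw [LinearMap.mem_ker] at ha ⊢
    simp only [wl, Fintype.linearCombination_apply, smul_eq_mul]
    refine hw a fun v => ?_
    simpa [Φ, Fintype.linearCombination_apply] using congr($ha v)
  let ξ : Dual R (Dual R M) :=
    (LinearMap.ker Φ).liftQ wl hker ∘ₗ (Φ.quotKerEquivOfSurjective (surjective_linComb θ hθ)).symm.toLinearMap
  refine ⟨(evalEquiv R M).symm ξ, fun i => ?_⟩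
  rw [apply_evalEquiv_symm_apply]
  have h1 : (Φ.quotKerEquivOfSurjective (surjective_linComb θ hθ)).symm (θ i) =
      Submodule.Quotient.mk (Pi.single i 1) := by
    rw [LinearEquiv.symm_apply_eq]
    show θ i = Φ (Pi.single i 1)
    rw [Fintype.linearCombination_apply_single, one_smul]
  show (LinearMap.ker Φ).liftQ wl hker ((Φ.quotKerEquivOfSurjective _).symm (θ i)) = w i
  rw [h1, Submodule.liftQ_apply]
  show Fintype.linearCombination R w (Pi.single i 1) = w i
  rw [Fintype.linearCombination_apply_single, one_smul]

variable (c : B ≃ₗ[R] (Fin r → R)) (f : M →ₗ[R] B) (hf : ∀ v i, c (f v) i = θ i v)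
  (p : B →ₗ[R] Q) (hp : Function.Surjective p) (hex : Function.Exact f p)

include hθ c hf hp hex in
/-- The cokernel is semireflexive. -/
theorem injective_eval_coker [IsReflexive R M] : Function.Injective (Dual.eval R Q) := by
  rw [injective_iff_map_eq_zero]
  intro q hq
  obtain ⟨b, rfl⟩ := hp q
  obtain ⟨v, hv⟩ := exists_preimage θ hθ (c b) fun a ha => by
    let al : B →ₗ[R] R := Fintype.linearCombination R a ∘ₗ c.toLinearMap
    have hker : LinearMap.ker p ≤ LinearMap.ker al := fun z hz => by
      obtain ⟨v, rfl⟩ := (hex z).1 hz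
      simp only [LinearMap.mem_ker, al, LinearMap.comp_apply, LinearEquiv.coe_coe, Fintype.linearCombination_apply,
        smul_eq_mul, hf]
      rw [← ha v]
      exact Finset.sum_congr rfl fun i _ => mul_comm _ _
    have := congr($hq ((LinearMap.ker p).liftQ al hker ∘ₗ (p.quotKerEquivOfSurjective hp).symm.toLinearMap))
    have h1 : (p.quotKerEquivOfSurjective hp).symm (p b) = Submodule.Quotient.mk b := by
      rw [LinearEquiv.symm_apply_eq]; rfl
    simp only [Dual.eval_apply, LinearMap.comp_apply, LinearEquiv.coe_coe, LinearMap.zero_apply, h1,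
      Submodule.liftQ_apply, al, Fintype.linearCombination_apply, smul_eq_mul] at this
    rw [← this]
    exact Finset.sum_congr rfl fun i _ => mul_comm _ _
  rw [show b = f v from c.injective (funext fun i => by rw [hf, hv])]
  exact hex.apply_apply_eq_zero v

include hθ c hf hp hex in
/-- For a free module the cokernel is free. -/
theorem free_coker [IsLocalRing R] [Module.Free R M] [Module.Finite R M] : Module.Free R Q := by
  obtain ⟨s, hs⟩ := Module.projective_lifting_property (Fintype.linearCombination R θ) LinearMap.id
    (surjective_linComb θ hθ)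
  let ρ : B →ₗ[R] M := (evalEquiv R M).symm.toLinearMap ∘ₗ
    (LinearMap.lcomp R R s ∘ₗ (Fintype.linearCombination R (M := (Fin r → R) →ₗ[R] R)
      fun i => LinearMap.proj i)) ∘ₗ c.toLinearMap
  have hρ : ∀ v, ρ (f v) = v := fun v => by
    show (evalEquiv R M).symm _ = v
    rw [LinearEquiv.symm_apply_eq]
    refine LinearMap.ext fun φ => ?_
    have h2 := congr($hs φ v)
    simp only [LinearMap.comp_apply, Fintype.linearCombination_apply, LinearMap.sum_apply, LinearMap.smul_apply,
      LinearMap.id_apply, smul_eq_mul] at h2
    simp only [LinearMap.comp_apply, LinearEquiv.coe_coe, Fintype.linearCombination_apply, LinearMap.lcomp_apply,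
      LinearMap.sum_apply, LinearMap.smul_apply, LinearMap.proj_apply, smul_eq_mul, hf]
    show _ = φ v
    rw [← h2]
    exact Finset.sum_congr rfl fun i _ => mul_comm _ _
  let d : B →ₗ[R] B := LinearMap.id - f ∘ₗ ρ
  have hker : LinearMap.ker p ≤ LinearMap.ker d := fun z hz => by
    obtain ⟨v, rfl⟩ := (hex z).1 hz
    simp [d, hρ]
  let sec : Q →ₗ[R] B := (LinearMap.ker p).liftQ d hker ∘ₗ (p.quotKerEquivOfSurjective hp).symm.toLinearMap
  haveI : Module.Projective R B := Module.Projective.of_equiv c.symm
  haveI : Module.Finite R B := Module.Finite.equiv c.symm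
  haveI : Module.Finite R Q := Module.Finite.of_surjective p hp
  haveI : Module.Projective R Q := Module.Projective.of_split sec p (LinearMap.ext fun q => by
    obtain ⟨b, rfl⟩ := hp q
    have h1 : (p.quotKerEquivOfSurjective hp).symm (p b) = Submodule.Quotient.mk b := by
      rw [LinearEquiv.symm_apply_eq]; rfl
    simp [sec, h1, d, hex.apply_apply_eq_zero])
  exact Module.free_of_flat_of_isLocalRing

end Groth.Agent.ReflEmbLib
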