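import Groth.Agent.FibreDualLib.SheafEval
import Groth.Agent.RefOne.Stalk
import Groth.Agent.LocFreeHomLib.Coherence
import Groth.Agent.H1ZeroLib.Global
import Groth.Agent.AmpleEmb.Generated
import Groth.Agent.AmpleEmb.Resolution
import Groth.Agent.AmpleLib.Separated
import Groth.Agent.DCohLib.Pullback
import Groth.Agent.DCohMore.TensorCoh
import Groth.Agent.QCohLib.Coherent
import Groth.Agent.CurveLib.TensorDeg
import Groth.Agent.ShStabLib.Noeth
import Groth.Agent.PullbackMod.SuppClosed
import Groth.Agent.S4812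

/-!
# Morphisms to a high power of an ample module generate all local duals
-/

set_option autoImplicit false
set_option backward.isDefEq.respectTransparency false
set_option linter.style.haveILetI false
universe u

open CategoryTheory Limits Opposite TopologicalSpace AlgebraicGeometry
open Groth.Agent.PullbackMod Groth.Agent.DCohLib
open scoped TensorProduct

noncomputable section

namespace Groth.Agent.ReflEmbLib

variable {X : Scheme.{u}}

/-- The value at a sum of a sum of morphisms. -/
theorem stalkLin_desc {ι : Type} [Fintype ι] {G : X.Modules} (N : ι → X.Modules) (t : ∀ i, N i ⟶ G) (y : X)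
    (z : (⨁ N).presheaf.stalk y) :
    stalkLin (biproduct.desc t) y z = ∑ j, stalkLin (t j) y (stalkLin (biproduct.π N j) y z) := by
  classical
  let Φ : ((⨁ N) ⟶ G) →+ G.presheaf.stalk y := AddMonoidHom.mk' (fun φ => stalkLin φ y z) fun φ ψ => by
    obtain ⟨V, hy, s, rfl⟩ := TopCat.Presheaf.exists_germ_eq (⨁ N).presheaf z
    rw [stalkLin_germ, stalkLin_germ, stalkLin_germ, ← map_add]
    rfl
  have h := congrArg Φ (biproduct.desc_eq (f := N) (g := t))
  rw [map_sum] at h
  refine h.trans (Finset.sum_congr rfl fun j _ => ?_)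
  show stalkLin (biproduct.π N j ≫ t j) y z = _
  rw [stalkLin_comp]
  rfl

/-- Finitely many sections generate a globally generated coherent module. -/
theorem exists_fin_sections [IsLocallyNoetherian X] [CompactSpace X] {G : X.Modules} (hG : Coh.IsCoh G)
    (h : Curv2.IsGloballyGenerated G) :
    ∃ (r : ℕ) (σ : Fin r → (Coh.structureModule X ⟶ G)), ∀ x, (⨆ i, LinearMap.range (stalkLin (σ i) x)) = ⊤ := by
  classical
  have key : ∀ x : X, ∃ (S : Finset (Coh.structureModule X ⟶ G)) (U : X.Opens), x ∈ U ∧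
      ∀ y ∈ U, (⨆ t ∈ S, LinearMap.range (stalkLin t y)) = ⊤ := by
    intro x
    haveI := hG.1
    haveI := PullbackMod.finite_stalk_of_isFT hG.2 x
    obtain ⟨S, hS⟩ := CompleteLattice.IsCompactElement.exists_finset_of_le_iSup _
      ((Submodule.fg_iff_compact _).1 (Module.Finite.fg_top (R := X.presheaf.stalk x) (M := G.presheaf.stalk x)))
      (fun t : Coh.structureModule X ⟶ G => LinearMap.range (stalkLin t x))
      (H1ZeroLib.iSup_range_sections h x).ge
    let e := S.equivFin.symm
    let N : Fin S.card → X.Modules := fun _ => Coh.structureModule X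
    let φ : (⨁ N) ⟶ G := biproduct.desc fun j => (e j).1
    have hC : Coh.IsCoh (⨁ N) :=
      ShStabLib.isCoh_of_iso (biproduct.isoCoproduct N).symm
        (DCohMore.isCoh_sigma_fin (Coh.structureModule X) (DevLib.isCoh_structureModule X) _)
    have hQ : Coh.IsCoh (cokernel φ) := (QCohLib.isCoh_kernel_cokernel φ hC hG).2
    let Sc := ShortComplex.mk φ (cokernel.π φ) (cokernel.condition φ)
    haveI : Epi Sc.g := inferInstanceAs (Epi (cokernel.π φ))
    have hex := fun y : X => DCohLib.exact_stalkLin Sc (ShortComplex.exact_cokernel φ) y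
    have hle : ∀ y, LinearMap.range (stalkLin φ y) ≤ ⨆ t ∈ S, LinearMap.range (stalkLin t y) := by
      rintro y _ ⟨z, rfl⟩
      rw [show stalkLin φ y z = _ from stalkLin_desc N _ y z]
      exact Submodule.sum_mem _ fun j _ =>
        Submodule.mem_iSup_of_mem (e j).1 (Submodule.mem_iSup_of_mem (e j).2 ⟨_, rfl⟩)
    have hge : (⨆ t ∈ S, LinearMap.range (stalkLin t x)) ≤ LinearMap.range (stalkLin φ x) := by
      refine iSup₂_le fun t ht => ?_
      rintro _ ⟨w, rfl⟩
      refine ⟨stalkLin (biproduct.ι N (S.equivFin ⟨t, ht⟩)) x w, ?_⟩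
      rw [← LinearMap.comp_apply, ← stalkLin_comp]
      show stalkLin (biproduct.ι N _ ≫ biproduct.desc _) x w = _
      rw [biproduct.ι_desc]
      simp [e]
      rfl
    refine ⟨S, ⟨(CohB1.support (cokernel φ))ᶜ,
      (PullbackMod.isClosed_support_of_isFT hQ.2).isOpen_compl⟩, ?_, fun y hy => ?_⟩
    · show x ∉ CohB1.support (cokernel φ)
      simp only [CohB1.support, Set.mem_setOf_eq, not_not]
      refine subsingleton_of_forall_eq 0 fun z => ?_
      obtain ⟨w, rfl⟩ := ((epi_iff_stalk (cokernel.π φ)).1 inferInstance x) z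
      exact ((hex x) w).2 (hge (hS Submodule.mem_top))
    · have hy' : Subsingleton ((cokernel φ).presheaf.stalk y) := not_not.1 hy
      refine eq_top_iff.2 fun z _ => hle y ?_
      exact (hex y z).1 (hy'.elim _ _)
  choose S U hxU hU using key
  obtain ⟨T, hT⟩ := isCompact_univ.elim_finite_subcover (fun x : X => (U x : Set X)) (fun x => (U x).2)
    (fun x _ => Set.mem_iUnion.2 ⟨x, hxU x⟩)
  let A := T.biUnion S
  refine ⟨A.card, fun i => (A.equivFin.symm i).1, fun y => eq_top_iff.2 ?_⟩
  obtain ⟨x, hxT, hyx⟩ := Set.mem_iUnion₂.1 (hT (Set.mem_univ y))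
  rw [← hU x y hyx]
  refine iSup₂_le fun t ht => le_iSup_of_le (A.equivFin ⟨t, Finset.mem_biUnion.2 ⟨x, hxT, ht⟩⟩) ?_
  simp

/-- The stalk of the morphism of a section of the sheaf of homomorphisms. -/
theorem stalkLin_toHom {M N : X.Modules} (f : Γ(RefHull.homSh M N, (⊤ : X.Opens))) (x : X) :
    stalkLin (HomLib.toHom f) x =
      RefHull.evalStalk M N x ((RefHull.homSh M N).presheaf.germ ⊤ x trivial f) := by
  refine LinearMap.ext fun v => ?_
  obtain ⟨V, hx, m, rfl⟩ := TopCat.Presheaf.exists_germ_eq M.presheaf v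
  rw [stalkLin_germ, HomLib.toHom_app, HomLib.germ_ev, RefHull.evalStalk_germ]

variable (G T : X.Modules)

/-- The pairing `G ⊗ (G^∨ ⊗ T) ⟶ O ⊗ T`. -/
def pairing : tmod G (tmod (RefHull.dual G) T) ⟶ tmod (Coh.structureModule X) T :=
  haveI : IsIso (LocFreeHomLib.assocMap G (RefHull.dual G) T) := by
    unfold LocFreeHomLib.assocMap; exact inferInstance
  inv (LocFreeHomLib.assocMap G (RefHull.dual G) T) ≫
    ((DCoh.tensorBi (X := X)).map (FibreDualLib.evMor G (Coh.structureModule X))).app T

theorem pairing_stalk (x : X) (v : G.presheaf.stalk x) (θ : (RefHull.dual G).presheaf.stalk x)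
    (t : T.presheaf.stalk x) :
    stalkLin (pairing G T) x (stalkTensor x G _ (v ⊗ₜ stalkTensor x (RefHull.dual G) T (θ ⊗ₜ t))) =
      stalkTensor x (Coh.structureModule X) T
        (RefHull.evalStalk G (Coh.structureModule X) x θ v ⊗ₜ t) := by
  haveI : IsIso (LocFreeHomLib.assocMap G (RefHull.dual G) T) := by
    unfold LocFreeHomLib.assocMap; exact inferInstance
  let z := stalkTensor x (tmod G (RefHull.dual G)) T (stalkTensor x G (RefHull.dual G) (v ⊗ₜ θ) ⊗ₜ t)
  have h1 : stalkLin (inv (LocFreeHomLib.assocMap G (RefHull.dual G) T)) x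
      (stalkTensor x G _ (v ⊗ₜ stalkTensor x (RefHull.dual G) T (θ ⊗ₜ t))) = z := by
    rw [← LocFreeHomLib.assocMap_stalk, ← LinearMap.comp_apply, ← stalkLin_comp, IsIso.hom_inv_id, stalkLin_id]
    rfl
  rw [pairing, stalkLin_comp, LinearMap.comp_apply, h1]
  refine (stalkTensor_natural_left (N := T) x (FibreDualLib.evMor G (Coh.structureModule X))
    (stalkTensor x G (RefHull.dual G) (v ⊗ₜ θ) ⊗ₜ[X.presheaf.stalk x] t)).trans ?_
  rw [LinearMap.rTensor_tmul, FibreDualLib.evMor_stalk]

variable {G T} [IsLocallyNoetherian X]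

/-- Every local homomorphism is a combination of the values of the adjoint of the pairing. -/
theorem surjective_evalStalk_curry (hG : Coh.IsCoh G) (hT : PicF.IsInvertible T) (x : X) :
    Function.Surjective fun q : (tmod (RefHull.dual G) T).presheaf.stalk x =>
      RefHull.evalStalk G (tmod (Coh.structureModule X) T) x
        (stalkLin (FibreDualLib.curryMor (pairing G T)) x q) := by
  intro φ
  obtain ⟨W, e, hxW, he⟩ := ParaFLib.exists_gen_nhd hT x
  let t := T.presheaf.germ W x hxW e
  have hu : Function.Bijective fun r : X.presheaf.stalk x =>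
      r • stalkTensor x (Coh.structureModule X) T (ParaFLib.oneG x ⊗ₜ t) :=
    AmpleLib.bijective_stalkTensor (RefOne.bijective_oOne x) (he.bijective_germ x hxW)
  let l := LinearEquiv.ofBijective (LinearMap.toSpanSingleton (X.presheaf.stalk x) _
    (stalkTensor x (Coh.structureModule X) T (ParaFLib.oneG x ⊗ₜ t))) hu
  obtain ⟨θ, hθ⟩ := (RefOne.evalStalk_bijective hG (DevLib.isCoh_structureModule X).1 x).2
    ((RefOne.oEquiv x).toLinearMap ∘ₗ l.symm.toLinearMap ∘ₗ φ)
  refine ⟨stalkTensor x (RefHull.dual G) T (θ ⊗ₜ t), LinearMap.ext fun v => ?_⟩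
  show RefHull.evalStalk G _ x (stalkLin (FibreDualLib.curryMor (pairing G T)) x _) v = φ v
  rw [FibreDualLib.curryMor_stalk, pairing_stalk, hθ]
  show stalkTensor x (Coh.structureModule X) T ((l.symm (φ v) • ParaFLib.oneG x) ⊗ₜ t) = φ v
  rw [← TensorProduct.smul_tmul', map_smul]
  exact l.apply_symm_apply (φ v)

/-- Finitely many morphisms to a power of an ample module generate all local homomorphisms. -/
theorem exists_gen_homs {L : X.Modules} (hL : CohB1.IsAmple L) (hG : Coh.IsCoh G) :
    ∃ (n r : ℕ) (ψ : Fin r → (G ⟶ CohB1.tensorPow L n)), 1 ≤ r ∧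
      ∀ x, Submodule.span (X.presheaf.stalk x) (Set.range fun i => stalkLin (ψ i) x) = ⊤ := by
  haveI : CompactSpace X := hL.2.1
  haveI : X.IsSeparated := AmpleLib.isSeparated_of_affine_genLocus hL.1 hL.2.2
  have hD := RefOne.isCoh_dual hG
  obtain ⟨n, hn⟩ := AmpleEmb.eventually_isGloballyGenerated hL hD
  set T := CohB1.tensorPow L n
  have hT : PicF.IsInvertible T := AmpleLib.isInvertible_tensorPow hL.1 n
  let P := tmod (RefHull.dual G) T
  obtain ⟨r, σ, hσ⟩ := exists_fin_sections (G := P)
    (CurveLib.isCoh_tmod hD (CurveLib.isCoh_of_isInvertible hT)) (hn n le_rfl)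
  let u : tmod (Coh.structureModule X) T ≅ T := AmpleLib.unitL T
  let ψ₀ : Fin r → (G ⟶ T) := fun i =>
    HomLib.toHom ((FibreDualLib.curryMor (pairing G T)).app ⊤ (AmpleLib.sec (σ i))) ≫ u.hom
  refine ⟨n, r + 1, Fin.cons 0 ψ₀, Nat.le_add_left 1 r, fun x => eq_top_iff.2 fun φ _ => ?_⟩
  let Λ : P.presheaf.stalk x →ₗ[X.presheaf.stalk x] (G.presheaf.stalk x →ₗ[X.presheaf.stalk x] T.presheaf.stalk x) :=
    LinearMap.llcomp _ _ _ _ (stalkLin u.hom x) ∘ₗ RefHull.evalStalk G (tmod (Coh.structureModule X) T) x ∘ₗ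
      stalkLin (FibreDualLib.curryMor (pairing G T)) x
  have hu := ((isIso_iff_stalk u.hom).1 inferInstance x)
  obtain ⟨q, hq⟩ := surjective_evalStalk_curry hG hT x
    ((LinearEquiv.ofBijective (stalkLin u.hom x) hu).symm.toLinearMap ∘ₗ φ)
  have hΛ : Λ q = φ := by
    exact (congrArg (fun z => stalkLin u.hom x ∘ₗ z) hq).trans
      (LinearMap.ext fun v => (LinearEquiv.ofBijective (stalkLin u.hom x) hu).apply_symm_apply _)
  rw [← hΛ]
  have hsp : q ∈ Submodule.span (X.presheaf.stalk x)
      (Set.range fun i => stalkLin (σ i) x (ParaFLib.oneG x)) := by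
    have h : q ∈ ⨆ i, LinearMap.range (stalkLin (σ i) x) := (hσ x).symm ▸ Submodule.mem_top
    refine (iSup_le fun i => ?_ : (⨆ i, LinearMap.range (stalkLin (σ i) x)) ≤ _) h
    rintro _ ⟨w, rfl⟩
    obtain ⟨c, rfl⟩ := (ParaFLib.bijective_oneG x).2 w
    rw [map_smul]
    exact Submodule.smul_mem _ _ (Submodule.subset_span ⟨i, rfl⟩)
  refine Submodule.span_induction ?_ (by rw [map_zero]; exact zero_mem _)
    (fun a b _ _ ha hb => by rw [map_add]; exact add_mem ha hb)
    (fun c a _ ha => by rw [map_smul]; exact Submodule.smul_mem _ _ ha) hsp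
  rintro _ ⟨i, rfl⟩
  refine Submodule.subset_span ⟨i.succ, ?_⟩
  simp only [Fin.cons_succ, ψ₀]
  rw [stalkLin_comp, stalkLin_toHom]
  show stalkLin u.hom x ∘ₗ _ = Λ _
  simp only [Λ, LinearMap.comp_apply, LinearMap.llcomp_apply']
  congr 2
  refine (stalkLin_germ _ (U := ⊤) x trivial _).symm.trans (congrArg _ ?_)
  exact (stalkLin_germ (σ i) (U := ⊤) x trivial _).symm

end Groth.Agent.ReflEmbLib
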